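import Cfsg.Agent.Lib.H94.TCJ3C.Chk
set_option Elab.async false
set_option autoImplicit false
set_option maxRecDepth 100000
set_option linter.all false
namespace H94.TCJ3C
open H35.TC
theorem r_60 : allB chkP 9 30720 = true := by decide +kernel
theorem r_61 : allB chkP 9 31232 = true := by decide +kernel
theorem r_62 : allB chkP 9 31744 = true := by decide +kernel
theorem r_63 : allB chkP 9 32256 = true := by decide +kernel
theorem r_64 : allB chkP 9 32768 = true := by decide +kernel
theorem r_65 : allB chkP 9 33280 = true := by decide +kernel
theorem r_66 : allB chkP 9 33792 = true := by decide +kernel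
theorem r_67 : allB chkP 9 34304 = true := by decide +kernel
theorem r_68 : allB chkP 9 34816 = true := by decide +kernel
theorem r_69 : allB chkP 9 35328 = true := by decide +kernel
theorem r_70 : allB chkP 9 35840 = true := by decide +kernel
theorem r_71 : allB chkP 9 36352 = true := by decide +kernel
theorem r_72 : allB chkP 9 36864 = true := by decide +kernel
end H94.TCJ3C
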